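import Cfsg.Agent.Lib.H23.NAJ4.Data
import Cfsg.Agent.Lib.H35.TC
set_option autoImplicit false
set_option maxRecDepth 100000
set_option linter.all false
namespace H23.NAJ4
open H35.TC
/-- letters -/
inductive Lt | x | y | yi
  deriving DecidableEq
/-- inverse letter -/
def inv : Lt → Lt
  | .x => .x
  | .y => .yi
  | .yi => .y
/-- table functions -/
noncomputable def T : Lt → ℕ → ℕ
  | .x => T_x
  | .y => T_y
  | .yi => T_yi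
/-- decoding of letter codes -/
def lt : ℕ → Lt
  | 0 => .x
  | 1 => .y
  | _ => .yi
/-- Coxeter matrix (0: no relation) -/
def mm : Lt → Lt → ℕ
  | .x, .x => 1
  | _, _ => 0
/-- extra relators `w ^ n` -/
def extra : List (List Lt × ℕ) := [
  ([.y], 3),
  ([.x, .yi, .x, .y], 6),
  ([.x, .y, .x, .y, .x, .yi, .x, .y, .x, .y, .x, .yi, .x, .y, .x, .y, .x, .yi, .x, .y, .x, .yi, .x, .yi, .x, .y, .x, .yi, .x, .yi, .x, .y, .x, .yi, .x, .yi], 1),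
  ([.x, .yi, .x, .yi, .x, .y, .x, .y], 5),
  ([.x, .y], 23),
  ([.x, .y, .x, .y, .x, .yi, .x, .y, .x, .yi, .x, .y, .x, .yi], 4),
  ([.y, .yi], 1),
  ([.yi, .y], 1)]
/-- relators -/
def rels : List (List Lt) := mkRels [(.x, .x)] mm extra
/-- subgroup words -/
def subs : List (List Lt) := [
  [.x, .y]]
noncomputable def dp_x_0 (j u : ℕ) : Bool :=
  Bool.rec (motive := fun _ => Bool) (lF1 T_x M (Nat.sub (T_x u) (Nat.mod (T_x u) M)) (Nat.mod (T_x u) M) u) (lF [T_yi, T_x, T_yi, T_x, T_y, T_x, T_yi, T_x, T_yi, T_x, T_y, T_x, T_yi, T_x, T_yi, T_x, T_y, T_x, T_y, T_x, T_yi, T_x, T_y, T_x, T_y, T_x, T_yi, T_x, T_y, T_x, T_y, T_x, T_yi, T_x, T_y] M (Nat.sub (T_x u) (Nat.mod (T_x u) M)) (Nat.mod (T_x u) M) u) (Nat.ble (nat_lit 3) j)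
noncomputable def dp_x_1 (j u : ℕ) : Bool :=
  Bool.rec (motive := fun _ => Bool) (lF [T_yi, T_x, T_yi, T_x, T_y, T_x, T_yi, T_x, T_yi, T_x, T_y, T_x, T_y, T_x, T_yi, T_x, T_y, T_x, T_y, T_x, T_yi, T_x, T_y, T_x, T_y, T_x, T_yi, T_x, T_y, T_x, T_yi, T_x, T_yi, T_x, T_y] M (Nat.sub (T_x u) (Nat.mod (T_x u) M)) (Nat.mod (T_x u) M) u) (lF [T_yi, T_x, T_yi, T_x, T_y, T_x, T_y, T_x, T_yi, T_x, T_y, T_x, T_y, T_x, T_yi, T_x, T_y, T_x, T_y, T_x, T_yi, T_x, T_y, T_x, T_yi, T_x, T_yi, T_x, T_y, T_x, T_yi, T_x, T_yi, T_x, T_y] M (Nat.sub (T_x u) (Nat.mod (T_x u) M)) (Nat.mod (T_x u) M) u) (Nat.ble (nat_lit 5) j)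
noncomputable def dp_x_2 (j u : ℕ) : Bool :=
  Bool.rec (motive := fun _ => Bool) (lF [T_yi, T_x, T_y, T_x, T_y, T_x, T_yi, T_x, T_y, T_x, T_yi, T_x, T_yi, T_x, T_y, T_x, T_yi, T_x, T_yi, T_x, T_y, T_x, T_yi, T_x, T_yi, T_x, T_y, T_x, T_y, T_x, T_yi, T_x, T_y, T_x, T_y] M (Nat.sub (T_x u) (Nat.mod (T_x u) M)) (Nat.mod (T_x u) M) u) (lF [T_yi, T_x, T_y, T_x, T_y, T_x, T_yi, T_x, T_yi, T_x, T_y, T_x, T_y, T_x, T_yi, T_x, T_yi, T_x, T_y, T_x, T_y, T_x, T_yi, T_x, T_yi, T_x, T_y, T_x, T_y, T_x, T_yi, T_x, T_yi, T_x, T_y, T_x, T_y, T_x, T_yi] M (Nat.sub (T_x u) (Nat.mod (T_x u) M)) (Nat.mod (T_x u) M) u) (Nat.ble (nat_lit 7) j)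
noncomputable def dp_x_3 (j u : ℕ) : Bool :=
  Bool.rec (motive := fun _ => Bool) (dp_x_1 j u) (dp_x_2 j u) (Nat.ble (nat_lit 6) j)
noncomputable def dp_x_4 (j u : ℕ) : Bool :=
  Bool.rec (motive := fun _ => Bool) (dp_x_0 j u) (dp_x_3 j u) (Nat.ble (nat_lit 4) j)
noncomputable def disp_x (j u : ℕ) : Bool :=
  Bool.rec (motive := fun _ => Bool) (lDef P (nat_lit 0) (Nat.mod (T_x u) M) u) (Bool.rec (motive := fun _ => Bool) (lDef P (nat_lit 0) u (Nat.mod (T_x u) M)) (dp_x_4 j u) (Nat.ble (nat_lit 2) j)) (Nat.ble (nat_lit 1) j)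
noncomputable def chk_x (j u : ℕ) : Bool :=
  Bool.rec (motive := fun _ => Bool) (disp_x j u) (Nat.ble (Nat.succ (MG u)) A) (Nat.ble A (T_x u))
noncomputable def dp_y_0 (j u : ℕ) : Bool :=
  Bool.rec (motive := fun _ => Bool) (lF1 T_yi M (Nat.sub (T_y u) (Nat.mod (T_y u) M)) (Nat.mod (T_y u) M) u) (lH [T_x] [] M (Nat.sub (T_y u) (Nat.mod (T_y u) M)) (Nat.mod (T_y u) M) u) (Nat.ble (nat_lit 4) j)
noncomputable def dp_y_1 (j u : ℕ) : Bool :=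
  Bool.rec (motive := fun _ => Bool) (lF [T_x, T_yi, T_x, T_y, T_x, T_yi, T_x, T_y, T_x, T_yi, T_x, T_y, T_x, T_yi, T_x, T_y, T_x, T_yi, T_x, T_y, T_x, T_yi, T_x] M (Nat.sub (T_y u) (Nat.mod (T_y u) M)) (Nat.mod (T_y u) M) u) (lF [T_x, T_y, T_x, T_yi, T_x, T_y, T_x, T_yi, T_x, T_yi, T_x, T_y, T_x, T_yi, T_x, T_yi, T_x, T_y, T_x, T_yi, T_x, T_yi, T_x, T_y, T_x, T_y, T_x, T_yi, T_x, T_y, T_x, T_y, T_x, T_yi, T_x] M (Nat.sub (T_y u) (Nat.mod (T_y u) M)) (Nat.mod (T_y u) M) u) (Nat.ble (nat_lit 6) j)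
noncomputable def dp_y_2 (j u : ℕ) : Bool :=
  Bool.rec (motive := fun _ => Bool) (lF [T_x, T_y, T_x, T_yi, T_x, T_y, T_x, T_y, T_x, T_yi, T_x, T_y, T_x, T_y, T_x, T_yi, T_x, T_y, T_x, T_yi, T_x, T_yi, T_x, T_y, T_x, T_yi, T_x, T_yi, T_x, T_y, T_x, T_yi, T_x, T_yi, T_x] M (Nat.sub (T_y u) (Nat.mod (T_y u) M)) (Nat.mod (T_y u) M) u) (lS MG [T_x, T_y, T_x, T_yi, T_x, T_y, T_x, T_y, T_x, T_yi, T_x, T_y, T_x, T_y, T_x, T_yi, T_x, T_y, T_x, T_yi, T_x, T_yi, T_x, T_y, T_x, T_yi, T_x, T_yi, T_x, T_y, T_x, T_yi, T_x, T_yi, T_x] M (Nat.sub (T_y u) (Nat.mod (T_y u) M)) (nat_lit 40) (Nat.mod (T_y u) M) u) (Nat.ble (nat_lit 9) j)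
noncomputable def dp_y_3 (j u : ℕ) : Bool :=
  Bool.rec (motive := fun _ => Bool) (lF [T_x, T_y, T_x, T_yi, T_x, T_y, T_x, T_y, T_x, T_yi, T_x, T_y, T_x, T_yi, T_x, T_yi, T_x, T_y, T_x, T_yi, T_x, T_yi, T_x, T_y, T_x, T_yi, T_x, T_yi, T_x, T_y, T_x, T_y, T_x, T_yi, T_x] M (Nat.sub (T_y u) (Nat.mod (T_y u) M)) (Nat.mod (T_y u) M) u) (dp_y_2 j u) (Nat.ble (nat_lit 8) j)
noncomputable def dp_y_4 (j u : ℕ) : Bool :=
  Bool.rec (motive := fun _ => Bool) (dp_y_1 j u) (dp_y_3 j u) (Nat.ble (nat_lit 7) j)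
noncomputable def dp_y_5 (j u : ℕ) : Bool :=
  Bool.rec (motive := fun _ => Bool) (dp_y_0 j u) (dp_y_4 j u) (Nat.ble (nat_lit 5) j)
noncomputable def disp_y (j u : ℕ) : Bool :=
  Bool.rec (motive := fun _ => Bool) (lDef P (nat_lit 1) (Nat.mod (T_y u) M) u) (Bool.rec (motive := fun _ => Bool) (lDef P (nat_lit 2) u (Nat.mod (T_y u) M)) (Bool.rec (motive := fun _ => Bool) (lF [T_y, T_y] M (Nat.sub (T_y u) (Nat.mod (T_y u) M)) (Nat.mod (T_y u) M) u) (dp_y_5 j u) (Nat.ble (nat_lit 3) j)) (Nat.ble (nat_lit 2) j)) (Nat.ble (nat_lit 1) j)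
noncomputable def chk_y (j u : ℕ) : Bool :=
  Bool.rec (motive := fun _ => Bool) (disp_y j u) (Nat.ble (Nat.succ (MG u)) A) (Nat.ble A (T_y u))
noncomputable def dp_yi_0 (j u : ℕ) : Bool :=
  Bool.rec (motive := fun _ => Bool) (lF [T_x, T_y, T_x, T_yi, T_x, T_y, T_x, T_yi, T_x, T_y, T_x, T_yi, T_x, T_y, T_x, T_yi, T_x, T_y, T_x, T_yi, T_x, T_y, T_x] M (Nat.sub (T_yi u) (Nat.mod (T_yi u) M)) (Nat.mod (T_yi u) M) u) (lF [T_yi, T_yi] M (Nat.sub (T_yi u) (Nat.mod (T_yi u) M)) (Nat.mod (T_yi u) M) u) (Nat.ble (nat_lit 4) j)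
noncomputable def dp_yi_1 (j u : ℕ) : Bool :=
  Bool.rec (motive := fun _ => Bool) (lF [T_x, T_y, T_x, T_yi, T_x, T_yi, T_x, T_y, T_x, T_y, T_x, T_yi, T_x, T_y, T_x, T_y, T_x, T_yi, T_x, T_y, T_x, T_y, T_x, T_yi, T_x, T_y, T_x, T_yi, T_x, T_yi, T_x, T_y, T_x, T_yi, T_x] M (Nat.sub (T_yi u) (Nat.mod (T_yi u) M)) (Nat.mod (T_yi u) M) u) (lF [T_x, T_y, T_x, T_yi, T_x, T_y, T_x, T_yi, T_x, T_yi, T_x, T_y, T_x, T_yi, T_x, T_y, T_x, T_yi, T_x, T_y, T_x, T_yi, T_x, T_yi, T_x, T_y, T_x, T_yi, T_x, T_y, T_x, T_yi, T_x, T_y, T_x, T_yi, T_x, T_yi, T_x, T_y, T_x, T_yi, T_x, T_y, T_x, T_yi, T_x, T_y, T_x, T_yi, T_x, T_yi, T_x, T_y, T_x] M (Nat.sub (T_yi u) (Nat.mod (T_yi u) M)) (Nat.mod (T_yi u) M) u) (Nat.ble (nat_lit 7) j)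
noncomputable def dp_yi_2 (j u : ℕ) : Bool :=
  Bool.rec (motive := fun _ => Bool) (lS MG [T_y] M (Nat.sub (T_yi u) (Nat.mod (T_yi u) M)) (nat_lit 40) (Nat.mod (T_yi u) M) u) (dp_yi_1 j u) (Nat.ble (nat_lit 6) j)
noncomputable def dp_yi_3 (j u : ℕ) : Bool :=
  Bool.rec (motive := fun _ => Bool) (dp_yi_0 j u) (dp_yi_2 j u) (Nat.ble (nat_lit 5) j)
noncomputable def disp_yi (j u : ℕ) : Bool :=
  Bool.rec (motive := fun _ => Bool) (lDef P (nat_lit 1) u (Nat.mod (T_yi u) M)) (Bool.rec (motive := fun _ => Bool) (lDef P (nat_lit 2) (Nat.mod (T_yi u) M) u) (Bool.rec (motive := fun _ => Bool) (lF1 T_y M (Nat.sub (T_yi u) (Nat.mod (T_yi u) M)) (Nat.mod (T_yi u) M) u) (dp_yi_3 j u) (Nat.ble (nat_lit 3) j)) (Nat.ble (nat_lit 2) j)) (Nat.ble (nat_lit 1) j)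
noncomputable def chk_yi (j u : ℕ) : Bool :=
  Bool.rec (motive := fun _ => Bool) (disp_yi j u) (Nat.ble (Nat.succ (MG u)) A) (Nat.ble A (T_yi u))
noncomputable def dM_0 (j z1 z2 u : ℕ) : Bool :=
  Bool.rec (motive := fun _ => Bool) (mCo MG T_x M (Nat.sub (MG u) (Nat.mod (MG u) M)) (nat_lit 40) z1 z2 u (Nat.mod (MG u) M)) (Bool.rec (motive := fun _ => Bool) (mCo MG T_y M (Nat.sub (MG u) (Nat.mod (MG u) M)) (nat_lit 40) z1 z2 u (Nat.mod (MG u) M)) (Bool.rec (motive := fun _ => Bool) (mCo MG T_yi M (Nat.sub (MG u) (Nat.mod (MG u) M)) (nat_lit 40) z1 z2 u (Nat.mod (MG u) M)) (Bool.rec (motive := fun _ => Bool) (Bool.rec (motive := fun _ => Bool) (mRel MG [T_x, T_yi, T_x, T_y, T_x, T_yi, T_x, T_y, T_x, T_yi, T_x, T_y, T_x, T_yi, T_x, T_y, T_x, T_yi] [T_yi, T_x, T_y, T_x, T_yi, T_x] M (Nat.sub (MG u) (Nat.mod (MG u) M)) (nat_lit 40)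 z1 u (Nat.mod (MG u) M)) (mRel MG [T_y, T_x, T_yi, T_x, T_y, T_x, T_yi, T_x, T_y] [T_x, T_y, T_x, T_yi, T_x, T_y, T_x, T_yi, T_x, T_y, T_x, T_yi, T_x, T_y, T_x] M (Nat.sub (MG u) (Nat.mod (MG u) M)) (nat_lit 40) z1 u (Nat.mod (MG u) M)) (Nat.ble (nat_lit 4) j)) (Bool.rec (motive := fun _ => Bool) (mRel MG [T_yi, T_x, T_y, T_x, T_yi, T_x, T_y, T_x, T_yi, T_x, T_y, T_x, T_yi, T_x, T_y, T_x, T_yi, T_x, T_y] [T_x, T_yi, T_x, T_y, T_x] M (Nat.sub (MG u) (Nat.mod (MG u) M)) (nat_lit 40) z1 u (Nat.mod (MG u) M)) (Bool.rec (motive := fun _ => Bool) (mRel MG [T_y, T_x, T_y, T_x, T_yi, T_x, T_yi, T_x, T_y, T_x, T_y, T_x, T_yi, T_x] [T_x, T_y, T_x, T_y, T_x, T_yi, T_x, T_yi, T_x, T_y, T_x, T_y, T_x, T_yi, T_x, T_yi, T_x, T_y, T_x, T_y, T_x, T_yi, T_x, T_yi, T_x, T_y] M (Nat.sub (MG u) (Nat.mod (MG u) M)) (nat_lit 40) z1 u (Nat.mod (MG u)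 M)) (mRel MG [T_y, T_x, T_yi, T_x, T_yi, T_x, T_y, T_x, T_yi, T_x, T_yi, T_x, T_y, T_x, T_y, T_x, T_yi, T_x, T_y, T_x, T_y, T_x, T_yi, T_x, T_y, T_x, T_y, T_x, T_yi, T_x, T_y, T_x, T_yi, T_x, T_yi, T_x] [] M (Nat.sub (MG u) (Nat.mod (MG u) M)) (nat_lit 40) z1 u (Nat.mod (MG u) M)) (Nat.ble (nat_lit 7) j)) (Nat.ble (nat_lit 6) j)) (Nat.ble (nat_lit 5) j)) (Nat.ble (nat_lit 3) j)) (Nat.ble (nat_lit 2) j)) (Nat.ble (nat_lit 1) j)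
noncomputable def chkM (u : ℕ) : Bool :=
  Bool.rec (motive := fun _ => Bool) (band (Nat.ble (Nat.succ (Nat.mod (MG u) M)) u) (dM_0 (Nat.land (MR u) (nat_lit 15)) (Nat.land (Nat.shiftRight (MR u) (nat_lit 4)) (nat_lit 511)) (Nat.shiftRight (MR u) (nat_lit 13)) u)) true (Nat.ble A (MG u))
noncomputable def chkN (u : ℕ) : Bool :=
  band (chk_x (Nat.land (Nat.shiftRight (RS u) (nat_lit 0)) (nat_lit 15)) u) (band (chk_y (Nat.land (Nat.shiftRight (RS u) (nat_lit 4)) (nat_lit 15)) u) (band (chk_yi (Nat.land (Nat.shiftRight (RS u) (nat_lit 8)) (nat_lit 15)) u) (chkM u)))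
noncomputable def chkP (u : ℕ) : Bool := Bool.rec (motive := fun _ => Bool) (chkN u) true (Nat.ble M u)
noncomputable def liveP (u : ℕ) : Bool := Bool.rec (motive := fun _ => Bool) (Nat.ble A (MG u)) false (Nat.ble M u)
end H23.NAJ4
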