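import Cfsg.Agent.Lib.H23.NAJ4.Chk
set_option autoImplicit false
set_option maxRecDepth 100000
set_option linter.all false
namespace H23.NAJ4
open H35.TC
section
variable {G : Type} [Group G] {g : Lt → G} {H : Subgroup G}
/-- the points of the nodes -/
noncomputable def cP (g : Lt → G) (H : Subgroup G) : ℕ → G ⧸ H := cc (fa g) lt P ((1 : G) : G ⧸ H)
theorem dp_x_0_s (hinv : ∀ x, g (inv x) = (g x)⁻¹) (hr : ∀ r ∈ rels, (r.map g).prod = 1) (hH : ∀ r ∈ subs, (r.map g).prod ∈ H)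
    (j u : ℕ) (hu : u < M) (h : dp_x_0 j u = true) : Good (fa g) T MG M (cP g H) Lt.x u := by
  unfold dp_x_0 at h
  rcases brec_true h with h | h
  · exact lF1_good (T := T) (x := Lt.x) (by decide) .x (hole_rel hinv hr (by decide +kernel)) h
  · exact lF_good (T := T) (x := Lt.x) (by decide) [Lt.yi, Lt.x, Lt.yi, Lt.x, Lt.y, Lt.x, Lt.yi, Lt.x, Lt.yi, Lt.x, Lt.y, Lt.x, Lt.yi, Lt.x, Lt.yi, Lt.x, Lt.y, Lt.x, Lt.y, Lt.x, Lt.yi, Lt.x, Lt.y, Lt.x, Lt.y, Lt.x, Lt.yi, Lt.x, Lt.y, Lt.x, Lt.y, Lt.x, Lt.yi, Lt.x, Lt.y] (hole_rel hinv hr (by decide +kernel)) h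
theorem dp_x_1_s (hinv : ∀ x, g (inv x) = (g x)⁻¹) (hr : ∀ r ∈ rels, (r.map g).prod = 1) (hH : ∀ r ∈ subs, (r.map g).prod ∈ H)
    (j u : ℕ) (hu : u < M) (h : dp_x_1 j u = true) : Good (fa g) T MG M (cP g H) Lt.x u := by
  unfold dp_x_1 at h
  rcases brec_true h with h | h
  · exact lF_good (T := T) (x := Lt.x) (by decide) [Lt.yi, Lt.x, Lt.yi, Lt.x, Lt.y, Lt.x, Lt.yi, Lt.x, Lt.yi, Lt.x, Lt.y, Lt.x, Lt.y, Lt.x, Lt.yi, Lt.x, Lt.y, Lt.x, Lt.y, Lt.x, Lt.yi, Lt.x, Lt.y, Lt.x, Lt.y, Lt.x, Lt.yi, Lt.x, Lt.y, Lt.x, Lt.yi, Lt.x, Lt.yi, Lt.x, Lt.y] (hole_rel hinv hr (by decide +kernel)) h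
  · exact lF_good (T := T) (x := Lt.x) (by decide) [Lt.yi, Lt.x, Lt.yi, Lt.x, Lt.y, Lt.x, Lt.y, Lt.x, Lt.yi, Lt.x, Lt.y, Lt.x, Lt.y, Lt.x, Lt.yi, Lt.x, Lt.y, Lt.x, Lt.y, Lt.x, Lt.yi, Lt.x, Lt.y, Lt.x, Lt.yi, Lt.x, Lt.yi, Lt.x, Lt.y, Lt.x, Lt.yi, Lt.x, Lt.yi, Lt.x, Lt.y] (hole_rel hinv hr (by decide +kernel)) h
theorem dp_x_2_s (hinv : ∀ x, g (inv x) = (g x)⁻¹) (hr : ∀ r ∈ rels, (r.map g).prod = 1) (hH : ∀ r ∈ subs, (r.map g).prod ∈ H)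
    (j u : ℕ) (hu : u < M) (h : dp_x_2 j u = true) : Good (fa g) T MG M (cP g H) Lt.x u := by
  unfold dp_x_2 at h
  rcases brec_true h with h | h
  · exact lF_good (T := T) (x := Lt.x) (by decide) [Lt.yi, Lt.x, Lt.y, Lt.x, Lt.y, Lt.x, Lt.yi, Lt.x, Lt.y, Lt.x, Lt.yi, Lt.x, Lt.yi, Lt.x, Lt.y, Lt.x, Lt.yi, Lt.x, Lt.yi, Lt.x, Lt.y, Lt.x, Lt.yi, Lt.x, Lt.yi, Lt.x, Lt.y, Lt.x, Lt.y, Lt.x, Lt.yi, Lt.x, Lt.y, Lt.x, Lt.y] (hole_rel hinv hr (by decide +kernel)) h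
  · exact lF_good (T := T) (x := Lt.x) (by decide) [Lt.yi, Lt.x, Lt.y, Lt.x, Lt.y, Lt.x, Lt.yi, Lt.x, Lt.yi, Lt.x, Lt.y, Lt.x, Lt.y, Lt.x, Lt.yi, Lt.x, Lt.yi, Lt.x, Lt.y, Lt.x, Lt.y, Lt.x, Lt.yi, Lt.x, Lt.yi, Lt.x, Lt.y, Lt.x, Lt.y, Lt.x, Lt.yi, Lt.x, Lt.yi, Lt.x, Lt.y, Lt.x, Lt.y, Lt.x, Lt.yi] (hole_rel hinv hr (by decide +kernel)) h
theorem dp_x_3_s (hinv : ∀ x, g (inv x) = (g x)⁻¹) (hr : ∀ r ∈ rels, (r.map g).prod = 1) (hH : ∀ r ∈ subs, (r.map g).prod ∈ H)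
    (j u : ℕ) (hu : u < M) (h : dp_x_3 j u = true) : Good (fa g) T MG M (cP g H) Lt.x u := by
  unfold dp_x_3 at h
  rcases brec_true h with h | h
  · exact dp_x_1_s hinv hr hH j u hu h
  · exact dp_x_2_s hinv hr hH j u hu h
theorem dp_x_4_s (hinv : ∀ x, g (inv x) = (g x)⁻¹) (hr : ∀ r ∈ rels, (r.map g).prod = 1) (hH : ∀ r ∈ subs, (r.map g).prod ∈ H)
    (j u : ℕ) (hu : u < M) (h : dp_x_4 j u = true) : Good (fa g) T MG M (cP g H) Lt.x u := by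
  unfold dp_x_4 at h
  rcases brec_true h with h | h
  · exact dp_x_0_s hinv hr hH j u hu h
  · exact dp_x_3_s hinv hr hH j u hu h
theorem snd_x (hinv : ∀ x, g (inv x) = (g x)⁻¹) (hr : ∀ r ∈ rels, (r.map g).prod = 1) (hH : ∀ r ∈ subs, (r.map g).prod ∈ H)
    (j u : ℕ) (hu : u < M) (h : disp_x j u = true) : Good (fa g) T MG M (cP g H) Lt.x u := by
  unfold disp_x at h
  rcases brec_true h with h | h
  · exact lDef_good (T := T) (x := Lt.x) (by decide) rfl h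
  · rcases brec_true h with h | h
    · exact lPar_good (T := T) (x := Lt.x) (x' := Lt.x) (by decide) rfl (inv_rel hinv _ _ rfl) h
    · exact dp_x_4_s hinv hr hH j u hu h
theorem snc_x (hinv : ∀ x, g (inv x) = (g x)⁻¹) (hr : ∀ r ∈ rels, (r.map g).prod = 1) (hH : ∀ r ∈ subs, (r.map g).prod ∈ H)
    (j u : ℕ) (hu : u < M) (h : chk_x j u = true) : (T Lt.x u < A ∧ Good (fa g) T MG M (cP g H) Lt.x u) ∨ (A ≤ T Lt.x u ∧ MG u < A) := by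
  unfold chk_x at h
  cases hb : Nat.ble A (T_x u) with
  | true => rw [hb] at h; exact Or.inr ⟨le_of_ble hb, le_of_ble h⟩
  | false => rw [hb] at h; exact Or.inl ⟨lt_of_ble_false hb, snd_x hinv hr hH j u hu h⟩
theorem dp_y_0_s (hinv : ∀ x, g (inv x) = (g x)⁻¹) (hr : ∀ r ∈ rels, (r.map g).prod = 1) (hH : ∀ r ∈ subs, (r.map g).prod ∈ H)
    (j u : ℕ) (hu : u < M) (h : dp_y_0 j u = true) : Good (fa g) T MG M (cP g H) Lt.y u := by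
  unfold dp_y_0 at h
  rcases brec_true h with h | h
  · exact lF1_good (T := T) (x := Lt.y) (by decide) .yi (hole_rel hinv hr (by decide +kernel)) h
  · exact lH_good (T := T) (x := Lt.y) (by decide) [Lt.x] [] (by rw [show cP g H 0 = _ from cc_zero]; exact sub_rel hinv (hH _ (by decide))) h
theorem dp_y_1_s (hinv : ∀ x, g (inv x) = (g x)⁻¹) (hr : ∀ r ∈ rels, (r.map g).prod = 1) (hH : ∀ r ∈ subs, (r.map g).prod ∈ H)
    (j u : ℕ) (hu : u < M) (h : dp_y_1 j u = true) : Good (fa g) T MG M (cP g H) Lt.y u := by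
  unfold dp_y_1 at h
  rcases brec_true h with h | h
  · exact lF_good (T := T) (x := Lt.y) (by decide) [Lt.x, Lt.yi, Lt.x, Lt.y, Lt.x, Lt.yi, Lt.x, Lt.y, Lt.x, Lt.yi, Lt.x, Lt.y, Lt.x, Lt.yi, Lt.x, Lt.y, Lt.x, Lt.yi, Lt.x, Lt.y, Lt.x, Lt.yi, Lt.x] (hole_rel hinv hr (by decide +kernel)) h
  · exact lF_good (T := T) (x := Lt.y) (by decide) [Lt.x, Lt.y, Lt.x, Lt.yi, Lt.x, Lt.y, Lt.x, Lt.yi, Lt.x, Lt.yi, Lt.x, Lt.y, Lt.x, Lt.yi, Lt.x, Lt.yi, Lt.x, Lt.y, Lt.x, Lt.yi, Lt.x, Lt.yi, Lt.x, Lt.y, Lt.x, Lt.y, Lt.x, Lt.yi, Lt.x, Lt.y, Lt.x, Lt.y, Lt.x, Lt.yi, Lt.x] (hole_rel hinv hr (by decide +kernel)) h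
theorem dp_y_2_s (hinv : ∀ x, g (inv x) = (g x)⁻¹) (hr : ∀ r ∈ rels, (r.map g).prod = 1) (hH : ∀ r ∈ subs, (r.map g).prod ∈ H)
    (j u : ℕ) (hu : u < M) (h : dp_y_2 j u = true) : Good (fa g) T MG M (cP g H) Lt.y u := by
  unfold dp_y_2 at h
  rcases brec_true h with h | h
  · exact lF_good (T := T) (x := Lt.y) (by decide) [Lt.x, Lt.y, Lt.x, Lt.yi, Lt.x, Lt.y, Lt.x, Lt.y, Lt.x, Lt.yi, Lt.x, Lt.y, Lt.x, Lt.y, Lt.x, Lt.yi, Lt.x, Lt.y, Lt.x, Lt.yi, Lt.x, Lt.yi, Lt.x, Lt.y, Lt.x, Lt.yi, Lt.x, Lt.yi, Lt.x, Lt.y, Lt.x, Lt.yi, Lt.x, Lt.yi, Lt.x] (hole_rel hinv hr (by decide +kernel)) h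
  · exact lS_good (T := T) (x := Lt.y) (by decide) hu [Lt.x, Lt.y, Lt.x, Lt.yi, Lt.x, Lt.y, Lt.x, Lt.y, Lt.x, Lt.yi, Lt.x, Lt.y, Lt.x, Lt.y, Lt.x, Lt.yi, Lt.x, Lt.y, Lt.x, Lt.yi, Lt.x, Lt.yi, Lt.x, Lt.y, Lt.x, Lt.yi, Lt.x, Lt.yi, Lt.x, Lt.y, Lt.x, Lt.yi, Lt.x, Lt.yi, Lt.x] (hole_rel hinv hr (by decide +kernel)) h
theorem dp_y_3_s (hinv : ∀ x, g (inv x) = (g x)⁻¹) (hr : ∀ r ∈ rels, (r.map g).prod = 1) (hH : ∀ r ∈ subs, (r.map g).prod ∈ H)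
    (j u : ℕ) (hu : u < M) (h : dp_y_3 j u = true) : Good (fa g) T MG M (cP g H) Lt.y u := by
  unfold dp_y_3 at h
  rcases brec_true h with h | h
  · exact lF_good (T := T) (x := Lt.y) (by decide) [Lt.x, Lt.y, Lt.x, Lt.yi, Lt.x, Lt.y, Lt.x, Lt.y, Lt.x, Lt.yi, Lt.x, Lt.y, Lt.x, Lt.yi, Lt.x, Lt.yi, Lt.x, Lt.y, Lt.x, Lt.yi, Lt.x, Lt.yi, Lt.x, Lt.y, Lt.x, Lt.yi, Lt.x, Lt.yi, Lt.x, Lt.y, Lt.x, Lt.y, Lt.x, Lt.yi, Lt.x] (hole_rel hinv hr (by decide +kernel)) h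
  · exact dp_y_2_s hinv hr hH j u hu h
theorem dp_y_4_s (hinv : ∀ x, g (inv x) = (g x)⁻¹) (hr : ∀ r ∈ rels, (r.map g).prod = 1) (hH : ∀ r ∈ subs, (r.map g).prod ∈ H)
    (j u : ℕ) (hu : u < M) (h : dp_y_4 j u = true) : Good (fa g) T MG M (cP g H) Lt.y u := by
  unfold dp_y_4 at h
  rcases brec_true h with h | h
  · exact dp_y_1_s hinv hr hH j u hu h
  · exact dp_y_3_s hinv hr hH j u hu h
theorem dp_y_5_s (hinv : ∀ x, g (inv x) = (g x)⁻¹) (hr : ∀ r ∈ rels, (r.map g).prod = 1) (hH : ∀ r ∈ subs, (r.map g).prod ∈ H)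
    (j u : ℕ) (hu : u < M) (h : dp_y_5 j u = true) : Good (fa g) T MG M (cP g H) Lt.y u := by
  unfold dp_y_5 at h
  rcases brec_true h with h | h
  · exact dp_y_0_s hinv hr hH j u hu h
  · exact dp_y_4_s hinv hr hH j u hu h
theorem snd_y (hinv : ∀ x, g (inv x) = (g x)⁻¹) (hr : ∀ r ∈ rels, (r.map g).prod = 1) (hH : ∀ r ∈ subs, (r.map g).prod ∈ H)
    (j u : ℕ) (hu : u < M) (h : disp_y j u = true) : Good (fa g) T MG M (cP g H) Lt.y u := by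
  unfold disp_y at h
  rcases brec_true h with h | h
  · exact lDef_good (T := T) (x := Lt.y) (by decide) rfl h
  · rcases brec_true h with h | h
    · exact lPar_good (T := T) (x := Lt.y) (x' := Lt.yi) (by decide) rfl (inv_rel hinv _ _ rfl) h
    · rcases brec_true h with h | h
      · exact lF_good (T := T) (x := Lt.y) (by decide) [Lt.y, Lt.y] (hole_rel hinv hr (by decide +kernel)) h
      · exact dp_y_5_s hinv hr hH j u hu h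
theorem snc_y (hinv : ∀ x, g (inv x) = (g x)⁻¹) (hr : ∀ r ∈ rels, (r.map g).prod = 1) (hH : ∀ r ∈ subs, (r.map g).prod ∈ H)
    (j u : ℕ) (hu : u < M) (h : chk_y j u = true) : (T Lt.y u < A ∧ Good (fa g) T MG M (cP g H) Lt.y u) ∨ (A ≤ T Lt.y u ∧ MG u < A) := by
  unfold chk_y at h
  cases hb : Nat.ble A (T_y u) with
  | true => rw [hb] at h; exact Or.inr ⟨le_of_ble hb, le_of_ble h⟩
  | false => rw [hb] at h; exact Or.inl ⟨lt_of_ble_false hb, snd_y hinv hr hH j u hu h⟩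
theorem dp_yi_0_s (hinv : ∀ x, g (inv x) = (g x)⁻¹) (hr : ∀ r ∈ rels, (r.map g).prod = 1) (hH : ∀ r ∈ subs, (r.map g).prod ∈ H)
    (j u : ℕ) (hu : u < M) (h : dp_yi_0 j u = true) : Good (fa g) T MG M (cP g H) Lt.yi u := by
  unfold dp_yi_0 at h
  rcases brec_true h with h | h
  · exact lF_good (T := T) (x := Lt.yi) (by decide) [Lt.x, Lt.y, Lt.x, Lt.yi, Lt.x, Lt.y, Lt.x, Lt.yi, Lt.x, Lt.y, Lt.x, Lt.yi, Lt.x, Lt.y, Lt.x, Lt.yi, Lt.x, Lt.y, Lt.x, Lt.yi, Lt.x, Lt.y, Lt.x] (hole_rel hinv hr (by decide +kernel)) h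
  · exact lF_good (T := T) (x := Lt.yi) (by decide) [Lt.yi, Lt.yi] (hole_rel hinv hr (by decide +kernel)) h
theorem dp_yi_1_s (hinv : ∀ x, g (inv x) = (g x)⁻¹) (hr : ∀ r ∈ rels, (r.map g).prod = 1) (hH : ∀ r ∈ subs, (r.map g).prod ∈ H)
    (j u : ℕ) (hu : u < M) (h : dp_yi_1 j u = true) : Good (fa g) T MG M (cP g H) Lt.yi u := by
  unfold dp_yi_1 at h
  rcases brec_true h with h | h
  · exact lF_good (T := T) (x := Lt.yi) (by decide) [Lt.x, Lt.y, Lt.x, Lt.yi, Lt.x, Lt.yi, Lt.x, Lt.y, Lt.x, Lt.y, Lt.x, Lt.yi, Lt.x, Lt.y, Lt.x, Lt.y, Lt.x, Lt.yi, Lt.x, Lt.y, Lt.x, Lt.y, Lt.x, Lt.yi, Lt.x, Lt.y, Lt.x, Lt.yi, Lt.x, Lt.yi, Lt.x, Lt.y, Lt.x, Lt.yi, Lt.x] (hole_rel hinv hr (by decide +kernel)) h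
  · exact lF_good (T := T) (x := Lt.yi) (by decide) [Lt.x, Lt.y, Lt.x, Lt.yi, Lt.x, Lt.y, Lt.x, Lt.yi, Lt.x, Lt.yi, Lt.x, Lt.y, Lt.x, Lt.yi, Lt.x, Lt.y, Lt.x, Lt.yi, Lt.x, Lt.y, Lt.x, Lt.yi, Lt.x, Lt.yi, Lt.x, Lt.y, Lt.x, Lt.yi, Lt.x, Lt.y, Lt.x, Lt.yi, Lt.x, Lt.y, Lt.x, Lt.yi, Lt.x, Lt.yi, Lt.x, Lt.y, Lt.x, Lt.yi, Lt.x, Lt.y, Lt.x, Lt.yi, Lt.x, Lt.y, Lt.x, Lt.yi, Lt.x, Lt.yi, Lt.x, Lt.y, Lt.x] (hole_rel hinv hr (by decide +kernel)) h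
theorem dp_yi_2_s (hinv : ∀ x, g (inv x) = (g x)⁻¹) (hr : ∀ r ∈ rels, (r.map g).prod = 1) (hH : ∀ r ∈ subs, (r.map g).prod ∈ H)
    (j u : ℕ) (hu : u < M) (h : dp_yi_2 j u = true) : Good (fa g) T MG M (cP g H) Lt.yi u := by
  unfold dp_yi_2 at h
  rcases brec_true h with h | h
  · exact lS_good (T := T) (x := Lt.yi) (by decide) hu [Lt.y] (hole_rel hinv hr (by decide +kernel)) h
  · exact dp_yi_1_s hinv hr hH j u hu h
theorem dp_yi_3_s (hinv : ∀ x, g (inv x) = (g x)⁻¹) (hr : ∀ r ∈ rels, (r.map g).prod = 1) (hH : ∀ r ∈ subs, (r.map g).prod ∈ H)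
    (j u : ℕ) (hu : u < M) (h : dp_yi_3 j u = true) : Good (fa g) T MG M (cP g H) Lt.yi u := by
  unfold dp_yi_3 at h
  rcases brec_true h with h | h
  · exact dp_yi_0_s hinv hr hH j u hu h
  · exact dp_yi_2_s hinv hr hH j u hu h
theorem snd_yi (hinv : ∀ x, g (inv x) = (g x)⁻¹) (hr : ∀ r ∈ rels, (r.map g).prod = 1) (hH : ∀ r ∈ subs, (r.map g).prod ∈ H)
    (j u : ℕ) (hu : u < M) (h : disp_yi j u = true) : Good (fa g) T MG M (cP g H) Lt.yi u := by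
  unfold disp_yi at h
  rcases brec_true h with h | h
  · exact lPar_good (T := T) (x := Lt.yi) (x' := Lt.y) (by decide) rfl (inv_rel hinv _ _ rfl) h
  · rcases brec_true h with h | h
    · exact lDef_good (T := T) (x := Lt.yi) (by decide) rfl h
    · rcases brec_true h with h | h
      · exact lF1_good (T := T) (x := Lt.yi) (by decide) .y (hole_rel hinv hr (by decide +kernel)) h
      · exact dp_yi_3_s hinv hr hH j u hu h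
theorem snc_yi (hinv : ∀ x, g (inv x) = (g x)⁻¹) (hr : ∀ r ∈ rels, (r.map g).prod = 1) (hH : ∀ r ∈ subs, (r.map g).prod ∈ H)
    (j u : ℕ) (hu : u < M) (h : chk_yi j u = true) : (T Lt.yi u < A ∧ Good (fa g) T MG M (cP g H) Lt.yi u) ∨ (A ≤ T Lt.yi u ∧ MG u < A) := by
  unfold chk_yi at h
  cases hb : Nat.ble A (T_yi u) with
  | true => rw [hb] at h; exact Or.inr ⟨le_of_ble hb, le_of_ble h⟩
  | false => rw [hb] at h; exact Or.inl ⟨lt_of_ble_false hb, snd_yi hinv hr hH j u hu h⟩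
theorem dM_0_s (hinv : ∀ x, g (inv x) = (g x)⁻¹) (hr : ∀ r ∈ rels, (r.map g).prod = 1) (j z1 z2 u : ℕ) (h : dM_0 j z1 z2 u = true) : GoodM (fa g) T MG M (cP g H) u := by
  unfold dM_0 at h
  rcases brec_true h with h | h
  · exact mCo_good (T := T) (y := .x) (by decide) h
  · rcases brec_true h with h | h
    · exact mCo_good (T := T) (y := .y) (by decide) h
    · rcases brec_true h with h | h
      · exact mCo_good (T := T) (y := .yi) (by decide) h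
      · rcases brec_true h with h | h
        · rcases brec_true h with h | h
          · exact mRel_good (T := T) (by decide) [Lt.x, Lt.yi, Lt.x, Lt.y, Lt.x, Lt.yi, Lt.x, Lt.y, Lt.x, Lt.yi, Lt.x, Lt.y, Lt.x, Lt.yi, Lt.x, Lt.y, Lt.x, Lt.yi] [Lt.yi, Lt.x, Lt.y, Lt.x, Lt.yi, Lt.x] (pair_rel hinv hr (by decide +kernel)) h
          · exact mRel_good (T := T) (by decide) [Lt.y, Lt.x, Lt.yi, Lt.x, Lt.y, Lt.x, Lt.yi, Lt.x, Lt.y] [Lt.x, Lt.y, Lt.x, Lt.yi, Lt.x, Lt.y, Lt.x, Lt.yi, Lt.x, Lt.y, Lt.x, Lt.yi, Lt.x, Lt.y, Lt.x] (pair_rel hinv hr (by decide +kernel)) h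
        · rcases brec_true h with h | h
          · exact mRel_good (T := T) (by decide) [Lt.yi, Lt.x, Lt.y, Lt.x, Lt.yi, Lt.x, Lt.y, Lt.x, Lt.yi, Lt.x, Lt.y, Lt.x, Lt.yi, Lt.x, Lt.y, Lt.x, Lt.yi, Lt.x, Lt.y] [Lt.x, Lt.yi, Lt.x, Lt.y, Lt.x] (pair_rel hinv hr (by decide +kernel)) h
          · rcases brec_true h with h | h
            · exact mRel_good (T := T) (by decide) [Lt.y, Lt.x, Lt.y, Lt.x, Lt.yi, Lt.x, Lt.yi, Lt.x, Lt.y, Lt.x, Lt.y, Lt.x, Lt.yi, Lt.x] [Lt.x, Lt.y, Lt.x, Lt.y, Lt.x, Lt.yi, Lt.x, Lt.yi, Lt.x, Lt.y, Lt.x, Lt.y, Lt.x, Lt.yi, Lt.x, Lt.yi, Lt.x, Lt.y, Lt.x, Lt.y, Lt.x, Lt.yi, Lt.x, Lt.yi, Lt.x, Lt.y] (pair_rel hinv hr (by decide +kernel)) h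
            · exact mRel_good (T := T) (by decide) [Lt.y, Lt.x, Lt.yi, Lt.x, Lt.yi, Lt.x, Lt.y, Lt.x, Lt.yi, Lt.x, Lt.yi, Lt.x, Lt.y, Lt.x, Lt.y, Lt.x, Lt.yi, Lt.x, Lt.y, Lt.x, Lt.y, Lt.x, Lt.yi, Lt.x, Lt.y, Lt.x, Lt.y, Lt.x, Lt.yi, Lt.x, Lt.y, Lt.x, Lt.yi, Lt.x, Lt.yi, Lt.x] [] (pair_rel hinv hr (by decide +kernel)) h
theorem sndM (hinv : ∀ x, g (inv x) = (g x)⁻¹) (hr : ∀ r ∈ rels, (r.map g).prod = 1) (u : ℕ) (h : chkM u = true) :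
    MG u < A → MG u % M < u ∧ GoodM (fa g) T MG M (cP g H) u := by
  intro hA
  unfold chkM at h
  cases hb : Nat.ble A (MG u) with
  | true => exact absurd (le_of_ble hb) (by omega)
  | false =>
    rw [hb] at h
    obtain ⟨h1, h2⟩ := band_eq_true.1 h
    exact ⟨le_of_ble h1, dM_0_s hinv hr _ _ _ _ h2⟩
theorem sndN (hinv : ∀ x, g (inv x) = (g x)⁻¹) (hr : ∀ r ∈ rels, (r.map g).prod = 1) (hH : ∀ r ∈ subs, (r.map g).prod ∈ H)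
    (u : ℕ) (hu : u < M) (h : chkP u = true) : (∀ x, (T x u < A ∧ Good (fa g) T MG M (cP g H) x u) ∨ (A ≤ T x u ∧ MG u < A)) ∧ (MG u < A → MG u % M < u ∧ GoodM (fa g) T MG M (cP g H) u) := by
  unfold chkP at h
  cases hb : Nat.ble M u with
  | true => exact absurd (le_of_ble hb) (by omega)
  | false =>
    rw [hb] at h
    change chkN u = true at h
    unfold chkN at h
    obtain ⟨h0, h⟩ := band_eq_true.1 h
    obtain ⟨h1, h⟩ := band_eq_true.1 h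
    obtain ⟨h2, h⟩ := band_eq_true.1 h
    refine ⟨?_, sndM hinv hr u h⟩
    intro x
    cases x
    · exact snc_x hinv hr hH _ u hu h0
    · exact snc_y hinv hr hH _ u hu h1
    · exact snc_yi hinv hr hH _ u hu h2
theorem final (hinv : ∀ x, g (inv x) = (g x)⁻¹) (hr : ∀ r ∈ rels, (r.map g).prod = 1) (hH : ∀ r ∈ subs, (r.map g).prod ∈ H)
    (hall : ∀ u, u < M → chkP u = true) (hc : cntB liveP 9 0 = 1) :
    H.relIndex (Subgroup.closure (Set.range g)) ≤ 1 ∧ H.relIndex (Subgroup.closure (Set.range g)) ≠ 0 := by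
  have hn := fun u hu => sndN hinv hr hH u hu (hall u hu)
  have h1 : ∀ x u, u < M → T x u < A → Good (fa g) T MG M (cP g H) x u := by
    intro x u hu hx
    rcases (hn u hu).1 x with h | h
    · exact h.2
    · exact absurd h.1 (by omega)
  have h2 : ∀ u, u < M → MG u < A → GoodM (fa g) T MG M (cP g H) u := fun u hu h => ((hn u hu).2 h).2
  refine relIndex_le (M := M) (A := A) (T := T) (MG := MG) (c := cP g H) (by decide) cc_zero (sound_of_good h1 h2) ?_ ?_ ?_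
  · intro u hu h
    exact ((hn u hu).2 h).1
  · intro x u hu h
    rcases (hn u hu).1 x with h' | h'
    · exact h'.1
    · exact absurd h'.2 (by omega)
  · rw [← hc, ← cntB_spec]
    apply Finset.card_le_card
    intro u
    simp only [Finset.mem_filter, Finset.mem_Ico]
    rintro ⟨⟨_, h3⟩, h4⟩
    refine ⟨⟨Nat.zero_le _, lt_of_lt_of_le h3 (by decide)⟩, ?_⟩
    unfold liveP
    cases hb : Nat.ble M u with
    | true => exact absurd (le_of_ble hb) (by omega)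
    | false => exact h4
end
end H23.NAJ4
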